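import Mathlib
import Groth.Prelude.Def_CAlg
import Groth.Agent.Lib.Helper4.TF9
import Groth.Agent.Lib.Helper8.Depth2

set_option autoImplicit false
set_option backward.isDefEq.respectTransparency.types false
set_option synthInstance.maxHeartbeats 400000
set_option maxHeartbeats 4000000
set_option linter.style.haveILetI false
set_option linter.unusedSectionVars false
set_option linter.unusedVariables false
set_option linter.unusedSimpArgs false
set_option linter.unnecessarySimpa false

universe u

namespace Groth.Agent.Helper2.ReflDepth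

open LocCoh IsLocalRing RingTheory.Sequence Groth.Agent.Helper8.Depth Groth.Agent.Helper4.TF

section Local

variable {A : Type u} [CommRing A] [IsLocalRing A] [IsNoetherianRing A] {N : Type u}
  [AddCommGroup N] [Module A N] [Module.Finite A N]

theorem smul_top_ne_top [Nontrivial N] : maximalIdeal A • (⊤ : Submodule A N) ≠ ⊤ := by
  intro h
  have := Submodule.eq_bot_of_le_smul_of_le_jacobson_bot (maximalIdeal A) (⊤ : Submodule A N)
    Module.Finite.fg_top (le_of_eq h.symm) (IsLocalRing.maximalIdeal_le_jacobson ⊥)
  exact top_ne_bot this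

theorem exists_regular_of_depth [Nontrivial N] (hd : 1 ≤ depth A N) :
    ∃ a ∈ maximalIdeal A, IsSMulRegular N a := by
  have hN := smul_top_ne_top (A := A) (N := N)
  unfold LocCoh.depth at hd
  obtain ⟨rs, hlen, hrs, hmem⟩ := (le_idealDepth_iff hN 1).mp (by exact_mod_cast hd)
  obtain ⟨a, rfl⟩ := List.length_eq_one_iff.mp hlen
  exact ⟨a, hmem a (by simp), ((isWeaklyRegular_cons_iff N a []).mp hrs).1⟩

theorem mem_smul_of_depth_two (hd : 2 ≤ depth A N) {x : A} (hx : x ∈ maximalIdeal A)
    (hreg : IsSMulRegular N x) (z : N)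
    (hz : ∀ y ∈ maximalIdeal A, ∃ w : N, y • z = x • w) : ∃ w : N, z = x • w := by
  by_cases hN : maximalIdeal A • (⊤ : Submodule A N) = ⊤
  · have h0 := Submodule.eq_bot_of_le_smul_of_le_jacobson_bot (maximalIdeal A)
      (⊤ : Submodule A N) Module.Finite.fg_top (le_of_eq hN.symm)
      (IsLocalRing.maximalIdeal_le_jacobson ⊥)
    have hz0 : z ∈ (⊥ : Submodule A N) := h0 ▸ Submodule.mem_top
    exact ⟨0, by rw [smul_zero]; exact (Submodule.mem_bot A).mp hz0⟩
  · have key := idealDepth_quotSMulTop_add_one hN hx hreg
    unfold LocCoh.depth at hd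
    rw [← key] at hd
    have h1 : ((1 : ℕ) : ℕ∞) ≤ idealDepth (maximalIdeal A) (QuotSMulTop x N) := by
      have h2 : ((1 : ℕ) : ℕ∞) + 1 ≤ idealDepth (maximalIdeal A) (QuotSMulTop x N) + 1 := by
        rw [show ((1 : ℕ) : ℕ∞) + 1 = 2 by norm_num]; exact hd
      exact (ENat.add_le_add_iff_right ENat.one_ne_top).mp h2
    have h' := smul_top_quotSMulTop_ne_top hx hN
    obtain ⟨rs, hlen, hrs, hmem⟩ := (le_idealDepth_iff h' 1).mp h1
    obtain ⟨y, rfl⟩ := List.length_eq_one_iff.mp hlen
    have hy : y ∈ maximalIdeal A := hmem y (by simp)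
    have hyreg : IsSMulRegular (QuotSMulTop x N) y :=
      ((isWeaklyRegular_cons_iff _ y []).mp hrs).1
    obtain ⟨w, hw⟩ := hz y hy
    have h3 : y • (Submodule.Quotient.mk z : QuotSMulTop x N) = y • 0 := by
      rw [smul_zero, ← Submodule.Quotient.mk_smul, hw, Submodule.Quotient.mk_eq_zero]
      exact Submodule.smul_mem_pointwise_smul w x ⊤ Submodule.mem_top
    have h4 := hyreg h3
    rw [Submodule.Quotient.mk_eq_zero] at h4
    obtain ⟨w', -, hw'⟩ := (Submodule.mem_smul_pointwise_iff_exists _ _ _).mp h4
    exact ⟨w', hw'.symm⟩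

end Local

section Global

variable (R : Type u) [CommRing R] [IsDomain R] [IsNoetherianRing R] (M : Type u)
  [AddCommGroup M] [Module R M] [Module.Finite R M]

/-- If `M_p` is reflexive, every element of the bidual is, up to a unit at `p`, in the image of
evaluation. (Extracted from helper4's `isReflexive_of_localization_maximal`.) -/
theorem exists_smul_mem_range_eval (p : Ideal R) [p.IsPrime]
    [Module.IsReflexive (Localization.AtPrime p) (LocalizedModule p.primeCompl M)]
    (η : Module.Dual R (Module.Dual R M)) :
    ∃ t ∈ p.primeCompl, ∃ x : M, t • η = Module.Dual.eval R M x := by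
  classical
  haveI : Module.FinitePresentation R M := Module.finitePresentation_of_finite R M
  let S := p.primeCompl
  let Rm := Localization.AtPrime p
  let Mm := LocalizedModule S M
  let f := LocalizedModule.mkLinearMap S M
  let g : R →ₗ[R] Rm := Algebra.linearMap R Rm
  let lam : Module.Dual R M →ₗ[R] Module.Dual Rm Mm :=
    IsLocalizedModule.mapExtendScalars S f g Rm
  haveI : IsLocalizedModule S lam :=
    Module.FinitePresentation.isLocalizedModule_mapExtendScalars S f g Rm
  let ηm : Module.Dual Rm (Module.Dual Rm Mm) :=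
    IsLocalizedModule.mapExtendScalars S lam g Rm η
  obtain ⟨y, hy⟩ := (Module.bijective_dual_eval Rm Mm).2 ηm
  obtain ⟨x, t, rfl⟩ : ∃ x t, y = LocalizedModule.mk x t := by
    induction y using LocalizedModule.induction_on with
    | h x t => exact ⟨x, t, rfl⟩
  refine ⟨(t : R), t.2, x, ?_⟩
  ext φ
  rw [LinearMap.smul_apply, Module.Dual.eval_apply, smul_eq_mul]
  apply algebraMap_atPrime_injective R p
  have h1 : ηm (lam φ) = algebraMap R Rm (η φ) := by
    simp only [ηm, IsLocalizedModule.mapExtendScalars_apply_apply,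
      IsLocalizedModule.map_apply]
    rfl
  have h2 : ηm (lam φ) = lam φ (LocalizedModule.mk x t) := by
    rw [← hy]; rfl
  have h3 : (t : R) • lam φ (LocalizedModule.mk x t) = algebraMap R Rm (φ x) := by
    rw [← LinearMap.map_smul_of_tower]
    have : (t : R) • (LocalizedModule.mk x t : Mm) = f x := by
      rw [LocalizedModule.smul'_mk]
      change LocalizedModule.mk (t • x) t = _
      rw [LocalizedModule.mk_cancel]
      rfl
    rw [this]
    simp only [lam, IsLocalizedModule.mapExtendScalars_apply_apply,
      IsLocalizedModule.map_apply]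
    rfl
  rw [map_mul, ← h1, h2, ← Algebra.smul_def, h3]

variable {R M}

lemma smul_mk_eq_zero (p : Ideal R) [p.IsPrime] (z : M) (a : Localization.AtPrime p)
    (ha : a ∈ maximalIdeal (Localization.AtPrime p)) (hz : ∀ r ∈ p, r • z = 0) :
    a • (LocalizedModule.mk z 1 : LocalizedModule p.primeCompl M) = 0 := by
  obtain ⟨r, s, rfl⟩ := IsLocalization.exists_mk'_eq p.primeCompl a
  rw [IsLocalization.AtPrime.mk'_mem_maximal_iff (Localization.AtPrime p) p] at ha
  rw [← Localization.mk_eq_mk', LocalizedModule.mk_smul_mk, hz r ha, LocalizedModule.zero_mk]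

lemma isSMulRegular_of_torsionFree {B : Type*} [CommRing B] [IsDomain B] {N : Type*}
    [AddCommGroup N] [Module B N] [Module.IsTorsionFree B N] {b : B} (hb : b ≠ 0) :
    IsSMulRegular N b := by
  intro m₁ m₂ h
  have h1 : b • (m₁ - m₂) = 0 := by rw [smul_sub]; exact sub_eq_zero.mpr h
  exact sub_eq_zero.mp (smul_eq_zero_of_torsionFree hb h1)

variable (R M)

theorem isReflexive_of_forall
    (h : ∀ (p : Ideal R) [p.IsPrime],
      Module.IsReflexive (Localization.AtPrime p) (LocalizedModule p.primeCompl M) ∨
        2 ≤ LocCoh.depth (Localization.AtPrime p) (LocalizedModule p.primeCompl M)) :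
    Module.IsReflexive R M := by
  classical
  obtain ⟨c, hc, hker, hcoker⟩ := exists_smul_ker_coker_eval R M
  -- Step 1: injectivity
  have hinj : Function.Injective (Module.Dual.eval R M) := by
    rw [← LinearMap.ker_eq_bot]
    by_contra hK
    haveI : Nontrivial (LinearMap.ker (Module.Dual.eval R M)) :=
      (Submodule.nontrivial_iff_ne_bot).mpr hK
    obtain ⟨p, hp⟩ := associatedPrimes.nonempty R (LinearMap.ker (Module.Dual.eval R M))
    obtain ⟨hprime, z, hz⟩ := isAssociatedPrime_iff.mp hp
    haveI := hprime
    have hmem : ∀ r : R, r ∈ p ↔ r • z = 0 := by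
      intro r
      rw [hz, Submodule.mem_colon_singleton, Submodule.mem_bot]
    have hz1 : ∀ r ∈ p, r • (z : M) = 0 := by
      intro r hr
      have := (hmem r).mp hr
      exact_mod_cast congrArg Subtype.val this
    have hcp : c ∈ p := by
      rw [hmem]
      apply Subtype.ext
      exact hker z.1 (LinearMap.mem_ker.mp z.2)
    have hz' : (LocalizedModule.mk (z : M) 1 : LocalizedModule p.primeCompl M) ≠ 0 := by
      intro h0
      rw [← LocalizedModule.mkLinearMap_apply,
        IsLocalizedModule.eq_zero_iff p.primeCompl] at h0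
      obtain ⟨s, hs⟩ := h0
      have : (s : R) ∈ p := by
        rw [hmem]
        apply Subtype.ext
        exact hs
      exact s.2 this
    haveI : Nontrivial (LocalizedModule p.primeCompl M) := ⟨⟨_, _, hz'⟩⟩
    haveI : IsDomain (Localization.AtPrime p) :=
      IsLocalization.isDomain_localization p.primeCompl_le_nonZeroDivisors
    obtain ⟨a, ha, hareg⟩ : ∃ a ∈ maximalIdeal (Localization.AtPrime p),
        IsSMulRegular (LocalizedModule p.primeCompl M) a := by
      rcases h p with hr | hd
      · haveI := hr
        refine ⟨algebraMap R (Localization.AtPrime p) c, ?_, ?_⟩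
        · rw [IsLocalization.AtPrime.to_map_mem_maximal_iff (Localization.AtPrime p) p]
          exact hcp
        · apply isSMulRegular_of_torsionFree
          intro h0
          exact hc (algebraMap_atPrime_injective R p (by rw [h0, map_zero]))
      · exact exists_regular_of_depth (le_trans (by norm_num) hd)
    have h1 := smul_mk_eq_zero p (z : M) a ha hz1
    exact hz' (hareg (h1.trans (smul_zero a).symm))
  haveI htf : Module.IsTorsionFree R M := (eval_injective_iff R M).mp hinj
  -- the bidual is torsion-free
  have hdual : ∀ η' : Module.Dual R (Module.Dual R M), c • η' = 0 → η' = 0 := by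
    intro η' h0
    ext φ
    have := LinearMap.congr_fun h0 φ
    rw [LinearMap.smul_apply, smul_eq_mul, LinearMap.zero_apply] at this
    rcases mul_eq_zero.mp this with h1 | h1
    · exact absurd h1 hc
    · exact h1
  -- Step 2: surjectivity
  refine ⟨⟨hinj, ?_⟩⟩
  rw [← LinearMap.range_eq_top]
  by_contra hR
  obtain ⟨Rg, hRg⟩ : ∃ Rg, Rg = LinearMap.range (Module.Dual.eval R M) := ⟨_, rfl⟩
  rw [← hRg] at hR
  haveI : Nontrivial (Module.Dual R (Module.Dual R M) ⧸ Rg) :=
    Submodule.Quotient.nontrivial_iff.mpr hR
  obtain ⟨p, hp⟩ := associatedPrimes.nonempty R (Module.Dual R (Module.Dual R M) ⧸ Rg)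
  obtain ⟨hprime, q, hq⟩ := isAssociatedPrime_iff.mp hp
  haveI := hprime
  obtain ⟨η, rfl⟩ := Submodule.Quotient.mk_surjective _ q
  have hmem : ∀ r : R, r ∈ p ↔ r • η ∈ Rg := by
    intro r
    rw [hq, Submodule.mem_colon_singleton, Submodule.mem_bot, ← Submodule.Quotient.mk_smul,
      Submodule.Quotient.mk_eq_zero]
  have hcp : c ∈ p := by
    rw [hmem, hRg]; exact hcoker η
  haveI : IsDomain (Localization.AtPrime p) :=
    IsLocalization.isDomain_localization p.primeCompl_le_nonZeroDivisors
  rcases h p with hr | hd
  · haveI := hr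
    obtain ⟨t, ht, x, hx⟩ := exists_smul_mem_range_eval R M p η
    have : t ∈ p := by
      rw [hmem, hx, hRg]; exact ⟨x, rfl⟩
    exact ht this
  · obtain ⟨z₀, hz₀⟩ := hcoker η
    haveI : Module.IsTorsionFree (Localization.AtPrime p) (LocalizedModule p.primeCompl M) :=
      isTorsionFree_localizedModule R M p
    have hx : algebraMap R (Localization.AtPrime p) c ∈ maximalIdeal (Localization.AtPrime p) := by
      rw [IsLocalization.AtPrime.to_map_mem_maximal_iff (Localization.AtPrime p) p]
      exact hcp
    have hxreg : IsSMulRegular (LocalizedModule p.primeCompl M)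
        (algebraMap R (Localization.AtPrime p) c) := by
      apply isSMulRegular_of_torsionFree
      intro h0
      exact hc (algebraMap_atPrime_injective R p (by rw [h0, map_zero]))
    have hxsmul : ∀ (w₀ : M) (s : p.primeCompl),
        algebraMap R (Localization.AtPrime p) c •
          (LocalizedModule.mk w₀ s : LocalizedModule p.primeCompl M) =
        LocalizedModule.mk (c • w₀) s := by
      intro w₀ s
      rw [algebraMap_smul, LocalizedModule.smul'_mk]
    have hz : ∀ y ∈ maximalIdeal (Localization.AtPrime p), ∃ w : LocalizedModule p.primeCompl M,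
        y • (LocalizedModule.mk z₀ 1 : LocalizedModule p.primeCompl M) =
          algebraMap R (Localization.AtPrime p) c • w := by
      intro y hy
      obtain ⟨y₀, s, rfl⟩ := IsLocalization.exists_mk'_eq p.primeCompl y
      rw [IsLocalization.AtPrime.mk'_mem_maximal_iff (Localization.AtPrime p) p] at hy
      have h1 := (hmem y₀).mp hy
      rw [hRg] at h1
      obtain ⟨w₀, hw₀⟩ := h1
      have h2 : y₀ • z₀ = c • w₀ := by
        apply hinj
        rw [map_smul, map_smul, hz₀, hw₀, smul_comm]
      refine ⟨LocalizedModule.mk w₀ s, ?_⟩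
      rw [← Localization.mk_eq_mk', LocalizedModule.mk_smul_mk, h2, mul_one, hxsmul]
    obtain ⟨w, hw⟩ := mem_smul_of_depth_two hd hx hxreg _ hz
    obtain ⟨w₀, s, rfl⟩ : ∃ w₀ s, w = LocalizedModule.mk w₀ s := by
      induction w using LocalizedModule.induction_on with
      | h x t => exact ⟨x, t, rfl⟩
    rw [hxsmul, LocalizedModule.mk_eq] at hw
    obtain ⟨u, hu⟩ := hw
    have h5 : ((u : R) * (s : R)) • η = Module.Dual.eval R M ((u : R) • w₀) := by
      rw [← sub_eq_zero]
      apply hdual
      rw [smul_sub, sub_eq_zero, smul_comm, ← hz₀, ← map_smul, ← map_smul]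
      congr 1
      have hu' : (u : R) • (s : R) • z₀ = (u : R) • (1 : R) • c • w₀ := hu
      rw [one_smul] at hu'
      rw [mul_smul, hu', smul_comm]
    have h6 : (u : R) * (s : R) ∈ p := by
      rw [hmem, h5, hRg]; exact ⟨_, rfl⟩
    rcases hprime.mem_or_mem h6 with h7 | h7
    · exact u.2 h7
    · exact s.2 h7

end Global

end Groth.Agent.Helper2.ReflDepth

namespace Groth.Agent.Helper2.ReflDepth

theorem main6879 (R : Type u) [CommRing R] [IsDomain R]
    [IsNoetherianRing R] (M : Type u) [AddCommGroup M] [Module R M] [Module.Finite R M] :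
    Module.IsReflexive R M ↔ ∀ (p : Ideal R) [p.IsPrime],
      Module.IsReflexive (Localization.AtPrime p) (LocalizedModule p.primeCompl M) ∨
        2 ≤ LocCoh.depth (Localization.AtPrime p) (LocalizedModule p.primeCompl M) := by
  constructor
  · intro h p _
    exact Or.inl (Groth.Agent.Helper4.TF.isReflexive_localizedModule R M p)
  · intro h
    exact isReflexive_of_forall R M h

end Groth.Agent.Helper2.ReflDepth
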